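/-
S2733, module Cl. CLAIM on forum topic S2733 before working; edit only your sorries; extra helper lemmas fine (prefix names to avoid clashes); statements are exact unless announced.
classify. T from conjS_surjective (noSolid_minus). Scalars: T^p scalar (conjS_eq_one_iff), so θ^p = 1 via thetaHom (see OmOdd.exists_field_conj).
Case θ ≠ 1, p odd: first alternative. Case θ ≠ 1, p = 2 is impossible [lemma no_involutive_field]: T² = c, σ c = c; Hilbert/norm: FiniteField.norm_surjective or Fx σ count gives d with d σ(d) = c⁻¹, S = scS' d * T has S² = 1 (nrm lemma in OmegaDesc line ~183); OmegaDesc.exists_desc, OmegaType.exists_minus_model (hL from stable_of_lagr + no_lagr_minus, see OmegaMinusField.main_field for the exact pattern) gives a₀ b₀ in Fx σ, K with b·Q(K y) = minusForm a₀ b₀ y; OmegaType.exists_root_two: ρ ∈ F root of X²+a₀X+b₀: the span in (Fin k ⊕ Fin k) ⊕ Fin 2 → F of the first Fin k coordinates and (ρ,1) is totally singular of dim k+1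 for minusForm a₀ b₀, its image under K is totally singular for Q of dim k+1: contradiction no_lagr_minus.
Case θ = 1: T is linear: g. hnot: g ∉ Pm (mem_Pm, induced_iff). T^p scalar. If p odd [or char 2]: g^p = c•1 ∈ Pm (class_smul / det) so g ∈ Pm: for 2 ≠ 0: δ(g)=det g / mult^(k+1) is a hom to ±1: δ(g^p) = δ(g)^p; so δ(g) = 1. Char 2: p odd since p ≠ r; exists_scalar_word_two, IsClassSub.word: g = c word(vs), vs odd length (g∉P), g^p = c^p word(vs^p), odd length, but g^p scalar: even: contradiction. So p = 2, 2 ≠ 0 (p ≠ r). IsClassSub.det gives det g ≠ l^(k+1).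
split_linear. c² = l² (apply Q twice: Q(g g v) = l² Q v = c² Q v, exists_nonsingular), c = l or c = -l.
c = l, l = d²: T₀ = d⁻¹ g: HypA: iso, inv. det g = d^(2k+2) det T₀ = l^(k+1) det T₀ so det T₀ ≠ 1. det T₀ = (-1)^(finrank Vm) [decomposition Vp ⊕ Vm; e.g. LinearMap.det via Submodule.prodEquivOfIsCompl or a basis] so finrank Vm odd; sum = 2k+2 so finrank Vp odd.
c = l non-square: det g = (-l)^(k+1) [lemma det_of_sq: E=F(ρ)-structure as in B0, LinearMap.det_restrictScalars, Algebra.norm ρ = -l] so k+1 odd (else det g = l^(k+1)); k+1 ≥ 4 odd: ≥ 5: HypB Q g l (k+1).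
c = -l, -l = d²: T₀ = d⁻¹ g, T₀² = 1, Q(T₀ v) = -Q v: Vp and Vm totally singular, dims sum 2k+2: one ≥ k+1: contradiction no_lagr_minus.
c = -l non-square: det_of_sq: det g = (l)^(k+1) contradiction.
-/
import Mathlib
import Cfsg.Agent.Lib.LocalBal.OmOdd
import Cfsg.Agent.Lib.Classical.OmegaMinusConj
import Cfsg.Agent.Lib.LocalBalM.A0
import Cfsg.Agent.Lib.LocalBalM.B0
import Cfsg.Agent.Lib.Classical.OmegaLift

set_option autoImplicit false
set_option linter.unusedSectionVars false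
set_option linter.unusedVariables false
set_option linter.unusedSimpArgs false
set_option linter.style.haveILetI false

namespace Cfsg.Agent.Lib.LocalBalM.ClDet

open Module Polynomial

/-- `g² = c`, `c` non-square: `det g = (-c)^m`. -/
theorem det_of_sq {F V : Type*} [Field F] [AddCommGroup V] [Module F V] [FiniteDimensional F V]
    (g : V →ₗ[F] V) (c : F) (hc : ¬ IsSquare c) (hg : ∀ v, g (g v) = c • v) (m : ℕ)
    (hm : finrank F V = 2 * m) : LinearMap.det g = (-c) ^ m := by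
  classical
  let f : F[X] := X ^ 2 - C c
  have hfm : f.Monic := monic_X_pow_sub_C c (by norm_num)
  have hfd : f.natDegree = 2 := natDegree_X_pow_sub_C
  have hf0 : f ≠ 0 := hfm.ne_zero
  have hirr : Irreducible f := by
    refine (Monic.irreducible_iff_roots_eq_zero_of_degree_le_three hfm (by omega) (by omega)).2 ?_
    rw [Multiset.eq_zero_iff_forall_notMem]
    intro z hz
    have hz' : f.IsRoot z := (mem_roots hf0).1 hz
    apply hc
    refine ⟨z, ?_⟩
    have : z ^ 2 - c = 0 := by simpa [f, IsRoot] using hz'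
    rw [← pow_two]
    exact (sub_eq_zero.1 this).symm
  haveI : Fact (Irreducible f) := ⟨hirr⟩
  let x : Module.End F V := g
  have hx : aeval x f = 0 := by
    simp only [f, map_sub, map_pow, aeval_X, aeval_C]
    ext v
    simp [x, pow_two, hg, Module.algebraMap_end_apply]
  let φ : AdjoinRoot f →ₐ[F] Module.End F V := Ideal.Quotient.liftₐ (Ideal.span {f}) (aeval x) (by
    intro a ha
    obtain ⟨b, rfl⟩ := Ideal.mem_span_singleton.1 ha
    rw [map_mul, hx, zero_mul])
  letI instM : Module (AdjoinRoot f) V := Module.compHom V φ.toRingHom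
  have hsmul : ∀ (e : AdjoinRoot f) (v : V), e • v = φ e v := fun e v => rfl
  haveI : IsScalarTower F (AdjoinRoot f) V := by
    refine ⟨fun r e v => ?_⟩
    rw [hsmul, map_smul, hsmul]
    rfl
  let ρ : AdjoinRoot f := AdjoinRoot.root f
  have hρ : ∀ v, ρ • v = g v := by
    intro v
    rw [hsmul]
    have : φ ρ = x := by
      show (aeval x) (X : F[X]) = x
      rw [aeval_X]
    rw [this]
  let fE : V →ₗ[AdjoinRoot f] V := ρ • LinearMap.id
  have hres : fE.restrictScalars F = g := by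
    ext v
    show ρ • v = g v
    exact hρ v
  have hpb : (AdjoinRoot.powerBasis hf0).dim = 2 := by
    rw [AdjoinRoot.powerBasis_dim, hfd]
  have hfin : finrank F (AdjoinRoot f) = 2 := by
    rw [(AdjoinRoot.powerBasis hf0).finrank, hpb]
  haveI : FiniteDimensional F (AdjoinRoot f) := (AdjoinRoot.powerBasis hf0).finite
  have hfinE : finrank (AdjoinRoot f) V = m := by
    have := Module.finrank_mul_finrank F (AdjoinRoot f) V
    rw [hfin, hm] at this
    omega
  have hnorm : Algebra.norm F ρ = -c := by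
    have h1 := Algebra.PowerBasis.norm_gen_eq_coeff_zero_minpoly (AdjoinRoot.powerBasis hf0)
    rw [hpb, AdjoinRoot.minpoly_powerBasis_gen_of_monic hfm hf0, AdjoinRoot.powerBasis_gen] at h1
    rw [show ρ = AdjoinRoot.root f from rfl, h1]
    simp [f, coeff_X_pow]
  have hdet : LinearMap.det fE = ρ ^ m := by
    rw [LinearMap.det_smul, LinearMap.det_id, mul_one, hfinE]
  rw [← hres, LinearMap.det_restrictScalars, hdet, map_pow, hnorm]

/-- The eigenspaces of an involution. -/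
theorem inv_compl {F V : Type*} [Field F] [AddCommGroup V] [Module F V] (h2 : (2 : F) ≠ 0)
    (T : V →ₗ[F] V) (hT : ∀ v, T (T v) = v) :
    IsCompl (LinearMap.ker (T - LinearMap.id)) (LinearMap.ker (T + LinearMap.id)) := by
  constructor
  · rw [Submodule.disjoint_def]
    intro v hv hw
    have h1 : T v = v := by simpa [sub_eq_zero] using hv
    have h3 : T v = -v := by
      have : T v + v = 0 := by simpa using hw
      exact eq_neg_of_add_eq_zero_left this
    have h4 : (2 : F) • v = 0 := by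
      rw [two_smul]
      nth_rewrite 1 [← h1]
      rw [h3]
      simp
    exact (smul_eq_zero.1 h4).resolve_left h2
  · rw [codisjoint_iff, eq_top_iff]
    intro v _
    have hv : v = (2 : F)⁻¹ • (v + T v) + (2 : F)⁻¹ • (v - T v) := by
      rw [← smul_add]
      have : v + T v + (v - T v) = (2 : F) • v := by
        rw [two_smul]; abel
      rw [this, smul_smul, inv_mul_cancel₀ h2, one_smul]
    rw [hv]
    refine Submodule.add_mem_sup ?_ ?_
    · rw [LinearMap.mem_ker]
      simp [hT, smul_sub, add_comm]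
    · rw [LinearMap.mem_ker]
      simp [hT, smul_sub]

/-- The determinant of an involution. -/
theorem det_of_invol {F V : Type*} [Field F] [AddCommGroup V] [Module F V] [FiniteDimensional F V]
    (h2 : (2 : F) ≠ 0) (T : V →ₗ[F] V) (hT : ∀ v, T (T v) = v) :
    LinearMap.det T = (-1) ^ finrank F (LinearMap.ker (T + LinearMap.id)) := by
  classical
  set A := LinearMap.ker (T - LinearMap.id) with hA
  set B := LinearMap.ker (T + LinearMap.id) with hB
  have hc : IsCompl A B := inv_compl h2 T hT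
  let e : (A × B) ≃ₗ[F] V := Submodule.prodEquivOfIsCompl A B hc
  let D : Module.End F (A × B) := LinearMap.prodMap (LinearMap.id) ((-1 : F) • LinearMap.id)
  have hconj : T = e.toLinearMap ∘ₗ D ∘ₗ e.symm.toLinearMap := by
    ext v
    obtain ⟨⟨a, b⟩, rfl⟩ := e.surjective v
    have ha : T a = a := by
      have : (T - LinearMap.id : V →ₗ[F] V) (a : V) = 0 := LinearMap.mem_ker.1 a.2
      rw [LinearMap.sub_apply, LinearMap.id_apply, sub_eq_zero] at this
      exact this
    have hb : T b = -b := by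
      have : (T + LinearMap.id : V →ₗ[F] V) (b : V) = 0 := LinearMap.mem_ker.1 b.2
      rw [LinearMap.add_apply, LinearMap.id_apply] at this
      exact eq_neg_of_add_eq_zero_left this
    simp only [LinearMap.comp_apply, LinearEquiv.coe_coe, LinearEquiv.symm_apply_apply]
    show T (a + b) = ((a : V) + ((-1 : F) • (b : V)))
    rw [map_add, ha, hb]
    simp [sub_eq_add_neg]
  have hdet : LinearMap.det D = (-1) ^ finrank F B := by
    rw [show D = LinearMap.prodMap (LinearMap.id) ((-1 : F) • LinearMap.id) from rfl, LinearMap.det_prodMap, LinearMap.det_id, LinearMap.det_smul, LinearMap.det_id]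
    simp
  rw [hconj, LinearMap.det_conj, hdet]

/-- A subspace of a given smaller dimension. -/
theorem exists_sub_finrank {F V : Type*} [Field F] [AddCommGroup V] [Module F V] [FiniteDimensional F V]
    (W : Submodule F V) (m : ℕ) (hm : m ≤ finrank F W) : ∃ U : Submodule F V, U ≤ W ∧ finrank F U = m := by
  classical
  let b := Module.finBasis F W
  let s : Fin m → V := fun i => (b (Fin.castLE hm i) : V)
  have hs : LinearIndependent F s := by
    have h1 := b.linearIndependent.comp (Fin.castLE hm) (Fin.castLE_injective hm)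
    exact h1.map' W.subtype (Submodule.ker_subtype W)
  refine ⟨Submodule.span F (Set.range s), ?_, ?_⟩
  · rw [Submodule.span_le]
    rintro _ ⟨i, rfl⟩
    exact (b (Fin.castLE hm i)).2
  · rw [finrank_span_eq_card hs, Fintype.card_fin]

end Cfsg.Agent.Lib.LocalBalM.ClDet

namespace Cfsg.Agent.Lib.LocalBalM.Cl

open Module MulAction QuadraticMap Matrix Cfsg.Agent.Lib.Witt.Quadratic Cfsg.Agent.Lib.Orth.Refl
open Cfsg.Agent.Lib.Orth.Gen Cfsg.Agent.Lib.OrthRefl.Eichler Cfsg.Agent.Lib.Classical.QuadEichler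
open Cfsg.Agent.Lib.Classical.QuadEichSimple Cfsg.Agent.Lib.Classical.OmegaHP Cfsg.Agent.Lib.Classical.OmegaLocal
open Cfsg.Agent.Lib.Classical.OmegaRoot Cfsg.Agent.Lib.Classical.OmegaSemi Cfsg.Agent.Lib.Classical.OmegaConj
open Cfsg.Agent.Lib.Classical.OmegaBar Cfsg.Agent.Lib.Classical.OmegaAut Cfsg.Agent.Lib.Classical.OmegaCount
open Cfsg.Agent.Lib.Orth.Forms Cfsg.Agent.Lib.Classical.BinaryForms Cfsg.Agent.Lib.Classical.QuadEichBridge
open Cfsg.Agent.Lib.Classical.OmegaForms Cfsg.Agent.Lib.Classical.OmegaOut Cfsg.Agent.Lib.Orth.Bridge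
open Cfsg.Agent.Lib.Classical.MatrixBridge Cfsg.Agent.Lib.Orth.Closure
open Cfsg.Agent.Lib.Classical.OmegaPGO Cfsg.Agent.Lib.Classical.OmegaPGO2 Cfsg.Agent.Lib.Classical.OmegaFrob
open Cfsg.Agent.Lib.Classical.OmegaOutOdd Cfsg.Agent.Lib.Classical.OmegaDesc Cfsg.Agent.Lib.Classical.OmegaFieldOdd
open Cfsg.Agent.Lib.LocalBal.OmEmb Cfsg.Agent.Lib.LocalBal.OmFix Cfsg.Agent.Lib.LocalBal.Core
open Cfsg.Agent.Lib.LocalBal.OmMain
open scoped commutatorElement

universe u

variable {F : Type u} [Field F] [Fintype F] {k : ℕ} {a b : F}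
open Cfsg.Agent.Lib.Classical.OmegaMinusConj Cfsg.Agent.Lib.Classical.OmegaCross Cfsg.Agent.Lib.Classical.OmegaMinusP Cfsg.Agent.Lib.Classical.OmegaPlusConj
open Cfsg.Agent.Lib.LocalBalM.A0 Cfsg.Agent.Lib.LocalBalM.B0

open Cfsg.Agent.Lib.Classical.OmegaType Cfsg.Agent.Lib.KS71.Speiser Cfsg.Agent.Lib.QuadFn.MaxSingular Cfsg.Agent.Lib.Classical.OmegaLift

/-- The square of a similarity lies in the class subgroup. -/
theorem cl_sq_mem {ι : Type} [Fintype ι] [DecidableEq ι] {Q : QuadraticForm F (ι → F)} [Nontrivial (ι → F)]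
    {hQ : (polarBilin Q).Nondegenerate} {m : ℕ} {P : Subgroup (Hs ⇑Q)} (hP : IsClassSub hQ m P)
    (hcard : Fintype.card ι = 2 * m) (hn : 5 ≤ Fintype.card ι) (g : Hs ⇑Q) : g * g ∈ P := by
  classical
  by_cases h2 : (2 : F) = 0
  · obtain ⟨c, vs, hvs, hw⟩ := exists_scalar_word_two hQ h2 hn g
    refine (hP.word (g * g) ((c : F) * c) (vs ++ vs) (mul_ne_zero c.ne_zero c.ne_zero) ?_ ?_).2 ?_
    · intro u hu
      rcases List.mem_append.1 hu with hu | hu <;> exact hvs u hu
    · show (g.1 * g.1 : GL ι F).val = _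
      rw [Units.val_mul, hw, List.map_append, List.prod_append, Matrix.smul_mul, Matrix.mul_smul, smul_smul]
    · rw [List.length_append]
      exact ⟨_, rfl⟩
  · rw [hP.det h2]
    have hd := det_sq_of_sim hQ g.1.val (mult hQ g : F) (fun w => mult_spec hQ g w)
    have e : (g * g : Hs ⇑Q).1.val = g.1.val * g.1.val := rfl
    rw [e, Matrix.det_mul, hd, hcard, map_mul, Units.val_mul, pow_mul', pow_two]
    ring

/-- Odd powers stay outside the class subgroup. -/
theorem cl_odd_pow_not_mem {ι : Type} [Fintype ι] [DecidableEq ι] {Q : QuadraticForm F (ι → F)} [Nontrivial (ι → F)]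
    {hQ : (polarBilin Q).Nondegenerate} {m : ℕ} {P : Subgroup (Hs ⇑Q)} (hP : IsClassSub hQ m P)
    (hcard : Fintype.card ι = 2 * m) (hn : 5 ≤ Fintype.card ι) {g : Hs ⇑Q} (hg : g ∉ P) {p : ℕ} (hp : Odd p) : g ^ p ∉ P := by
  obtain ⟨t, rfl⟩ := hp
  intro h
  apply hg
  have h1 : (g * g) ^ t ∈ P := pow_mem (cl_sq_mem hP hcard hn g) t
  have h2 : g ^ (2 * t + 1) = (g * g) ^ t * g := by
    rw [pow_succ, pow_mul, pow_two]
  rw [h2] at h
  exact (Subgroup.mul_mem_cancel_left P h1).1 h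

/-- No semisimilarity with involutory field part has a scalar square. -/
theorem no_involutive_field (hk : 3 ≤ k) (hab : ∀ z₁ z₂ : F, z₁ ^ 2 + a * z₁ * z₂ + b * z₂ ^ 2 = 0 → z₁ = 0 ∧ z₂ = 0)
    (T : SemiEl (minusForm k F a b)) {σ : F ≃+* F} {l : F} (H : Semi (minusForm k F a b) T.1 σ l)
    (hσ : orderOf σ = 2) (c : F) (hc0 : c ≠ 0) (hT : T ^ 2 = scS' c hc0) : False := by
  classical
  have hQ := minusForm_nondeg (F := F) k hab
  obtain ⟨x, hx⟩ := exists_nonsingular (Q := minusForm k F a b) hQ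
  have hx0 : x ≠ 0 := by
    rintro rfl
    exact hx (QuadraticMap.map_zero _)
  have hTx : T.1 x ≠ 0 := fun h => hx0 (by simpa using h)
  have hσc : σ c = c := by
    have h1 : (T ^ 2).1 (T.1 x) = T.1 ((T ^ 2).1 x) := by
      rw [pow_two, SemiEl.mul_apply, SemiEl.mul_apply]
    rw [hT, scS'_apply, scS'_apply, H.smul] at h1
    have h3 : (c - σ c) • T.1 x = 0 := by rw [sub_smul, h1, sub_self]
    exact (sub_eq_zero.1 ((smul_eq_zero.1 h3).resolve_right hTx)).symm
  obtain ⟨d, hd0, hd⟩ := nrm_surj σ hσ c⁻¹ (inv_ne_zero hc0) (by rw [map_inv₀, hσc])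
  let S : SemiEl (minusForm k F a b) := scS' d hd0 * T
  have hSy : ∀ y, S.1 y = d • T.1 y := fun y => by
    show (scS' d hd0 * T).1 y = _
    rw [SemiEl.mul_apply, scS'_apply]
  have HS : Semi (minusForm k F a b) S.1 σ (d * d * l) := by
    refine ⟨fun e y => ?_, fun y => ?_, mul_ne_zero (mul_ne_zero hd0 hd0) H.ne⟩
    · rw [hSy, hSy, H.smul, smul_comm]
    · rw [hSy, QuadraticMap.map_smul, H.Q_eq, smul_eq_mul]
      ring
  have hS : S ^ 2 = 1 := by
    apply Subtype.ext
    ext1 y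
    have h1 := pow_scS'_mul H d hd0 2 y
    show (S ^ 2).1 y = y
    rw [show S ^ 2 = (scS' d hd0 * T) ^ 2 from rfl, h1, hT, scS'_apply, smul_smul, hd, inv_mul_cancel₀ hc0, one_smul]
  obtain ⟨k₀, β, D⟩ := exists_desc hQ HS hσ (by norm_num) hS
  have hnd := descend_nondeg _ D.stable (twistForm_nondeg hQ k₀ D.b_ne)
  have hL : ¬ ∃ U₀ : Submodule (Fx σ) ((Fin k ⊕ Fin k) ⊕ Fin 2 → Fx σ), TS (⇑(descend (twistForm (minusForm k F a b) k₀ β) D.stable)) U₀ ∧ finrank (Fx σ) U₀ = k + 1 := by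
    rintro ⟨U₀, h1, h2⟩
    obtain ⟨W, hW, hWm, -⟩ := stable_of_lagr hQ HS D (m := k + 1) (card_minus' k) hnd h1 h2
    exact no_lagr_minus hab ⟨W, hW, hWm⟩
  obtain ⟨U, hU, hUm, -⟩ := neighbour_of_elliptic hQ HS D (card_minus' k) hnd hσ hL
  exact no_lagr_minus hab ⟨U, hU, hUm⟩

/-- The shape of an automorphism of prime order, not inner-diagonal. -/
theorem classify (hk : 3 ≤ k) (hab : ∀ z₁ z₂ : F, z₁ ^ 2 + a * z₁ * z₂ + b * z₂ ^ 2 = 0 → z₁ = 0 ∧ z₂ = 0)
    (hn : 5 ≤ Fintype.card ((Fin k ⊕ Fin k) ⊕ Fin 2)) (r : ℕ) [Fact r.Prime] [CharP F r] {p : ℕ} [Fact p.Prime] (hpr : p ≠ r)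
    (x : MulAut (Cfsg.POmega F (Cfsg.quadFormMinus k F a b))) (hord : orderOf x = p)
    (hnot : ¬ Cfsg.IsInnerDiagonalAutPOmegaMinus k a b x) :
    ∃ (T : SemiEl (minusForm k F a b)) (σ : F ≃+* F) (l : F) (H : Semi (minusForm k F a b) T.1 σ l),
      conjS (minusForm_nondeg (F := F) k hab) hn T = x ∧
      ((σ ≠ RingEquiv.refl F ∧ orderOf σ = p ∧ Odd p) ∨
       (p = 2 ∧ (2 : F) ≠ 0 ∧ ∃ (g : ((Fin k ⊕ Fin k) ⊕ Fin 2 → F) ≃ₗ[F] ((Fin k ⊕ Fin k) ⊕ Fin 2 → F)) (c : F), c ≠ 0 ∧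
          (∀ v, T.1 v = g v) ∧ (∀ v, g (g v) = c • v) ∧ (∀ v, minusForm k F a b (g v) = l * minusForm k F a b v) ∧
          LinearMap.det (g : ((Fin k ⊕ Fin k) ⊕ Fin 2 → F) →ₗ[F] ((Fin k ⊕ Fin k) ⊕ Fin 2 → F)) ≠ l ^ (k + 1))) := by
  classical
  have hpp : p.Prime := Fact.out
  have hQ := minusForm_nondeg (F := F) k hab
  have hn7 : 7 ≤ Fintype.card ((Fin k ⊕ Fin k) ⊕ Fin 2) := by
    rw [card_minus']
    omega
  have hn' : 5 ≤ 2 * k + 2 := by omega
  obtain ⟨T, hTx⟩ := conjS_surjective hQ hn r hn7 (noSolid_minus hab) x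
  subst hTx
  obtain ⟨θ, l, H⟩ := T.2
  have hθ : thetaHom _ T = θ := thetaHom_eq T H
  obtain ⟨c, hc0, hcT⟩ : ∃ (c : F) (hc0 : c ≠ 0), T ^ p = scS' c hc0 := by
    have h1 : conjS hQ hn (T ^ p) = 1 := by
      rw [map_pow, ← hord]
      exact pow_orderOf_eq_one _
    obtain ⟨c, hc0, hcT⟩ := (conjS_eq_one_iff hQ hn r).1 h1
    refine ⟨c, hc0, ?_⟩
    apply Subtype.ext
    ext1 y
    exact hcT y
  have hθp : θ ^ p = 1 := by
    have h4 : thetaHom _ (T ^ p) = 1 := by
      rw [hcT]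
      exact thetaHom_eq _ (scalar_semi c hc0)
    rw [map_pow, hθ] at h4
    exact h4
  refine ⟨T, θ, l, H, rfl, ?_⟩
  by_cases hθ1 : θ = RingEquiv.refl F
  · right
    subst hθ1
    have hker : T ∈ (thetaHom (minusForm k F a b)).ker := by
      rw [MonoidHom.mem_ker, hθ]
      rfl
    obtain ⟨δ, rfl⟩ := exists_toSemi_of_ker hQ r hker
    have hP := isClassSub_Pm (F := F) (a := a) (b := b) hn' hab
    have hδ : δ ∉ Pm hn' hab := by
      intro hm
      apply hnot
      refine ⟨δ.1, δ.2, hm, ?_⟩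
      exact (induced_iff δ _).2 (conjS_toSemi hQ hn δ)
    have hδp : (δ ^ p) ∈ Pm hn' hab := by
      have h1 : (δ ^ p).1.val = c • (1 : Hs ⇑(minusForm k F a b)).1.val := by
        apply Cfsg.Agent.Lib.Orth.Words.mat_eq_of_mulVec
        intro y
        have h2 := congrArg (fun t : SemiEl (minusForm k F a b) => t.1 y) hcT
        simp only [scS'_apply] at h2
        rw [← toSemiHom_apply, ← map_pow, toSemiHom_apply, toSemi_apply] at h2
        rw [h2]
        simp [Matrix.smul_mulVec]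
      exact (class_smul hQ hn hP (card_minus' k) c hc0 1 (δ ^ p) h1).1 (one_mem _)
    have hp2 : p = 2 := by
      by_contra hp2
      exact cl_odd_pow_not_mem hP (card_minus' k) hn hδ (hpp.odd_of_ne_two hp2) hδp
    subst hp2
    have h2 : (2 : F) ≠ 0 := by
      intro h
      apply hpr
      have : r ∣ 2 := (CharP.cast_eq_zero_iff F r 2).1 (by exact_mod_cast h)
      exact ((Nat.prime_dvd_prime_iff_eq Fact.out Nat.prime_two).1 this).symm
    refine ⟨rfl, h2, glToLin δ.1, c, hc0, fun v => rfl, fun v => ?_, fun v => ?_, ?_⟩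
    · have h3 := congrArg (fun t : SemiEl (minusForm k F a b) => t.1 v) hcT
      simp only [scS'_apply] at h3
      rw [pow_two, SemiEl.mul_apply] at h3
      exact h3
    · exact H.Q_eq v
    · have hl : (mult hQ δ : F) = l := by
        obtain ⟨v, hv⟩ := exists_nonsingular (Q := minusForm k F a b) hQ
        have h3 := mult_spec hQ δ v
        have h4 := H.Q_eq v
        rw [toSemi_apply, h3] at h4
        exact mul_right_cancel₀ hv h4
      have hdet : LinearMap.det ((glToLin δ.1 : ((Fin k ⊕ Fin k) ⊕ Fin 2 → F) ≃ₗ[F] ((Fin k ⊕ Fin k) ⊕ Fin 2 → F)) : ((Fin k ⊕ Fin k) ⊕ Fin 2 → F) →ₗ[F] ((Fin k ⊕ Fin k) ⊕ Fin 2 → F)) = δ.1.val.det := by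
        rw [← LinearMap.det_toLin']
        congr 1
      rw [hdet, ← hl]
      intro h5
      exact hδ ((hP.det h2 δ).2 h5)
  · left
    have hordθ : orderOf θ = p := orderOf_eq_prime hθp hθ1
    refine ⟨hθ1, hordθ, ?_⟩
    rcases hpp.eq_two_or_odd' with hp2 | hp2
    · subst hp2
      exact (no_involutive_field hk hab T H hordθ c hc0 hcT).elim
    · exact hp2

/-- The two types of improper involutions. -/
theorem split_linear (hk : 3 ≤ k) (hab : ∀ z₁ z₂ : F, z₁ ^ 2 + a * z₁ * z₂ + b * z₂ ^ 2 = 0 → z₁ = 0 ∧ z₂ = 0) (h2 : (2 : F) ≠ 0)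
    (g : ((Fin k ⊕ Fin k) ⊕ Fin 2 → F) ≃ₗ[F] ((Fin k ⊕ Fin k) ⊕ Fin 2 → F)) (c l : F) (hc : c ≠ 0) (hl : l ≠ 0)
    (hg2 : ∀ v, g (g v) = c • v) (hgQ : ∀ v, minusForm k F a b (g v) = l * minusForm k F a b v)
    (hdet : LinearMap.det (g : ((Fin k ⊕ Fin k) ⊕ Fin 2 → F) →ₗ[F] ((Fin k ⊕ Fin k) ⊕ Fin 2 → F)) ≠ l ^ (k + 1)) :
    (∃ (T₀ : ((Fin k ⊕ Fin k) ⊕ Fin 2 → F) ≃ₗ[F] ((Fin k ⊕ Fin k) ⊕ Fin 2 → F)) (d : F), d ≠ 0 ∧ (∀ v, g v = d • T₀ v) ∧
        HypA (minusForm k F a b) T₀ ∧ LinearMap.det (T₀ : ((Fin k ⊕ Fin k) ⊕ Fin 2 → F) →ₗ[F] ((Fin k ⊕ Fin k) ⊕ Fin 2 → F)) ≠ 1) ∨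
      HypB (minusForm k F a b) g l (k + 1) := by
  classical
  have hnd := minusForm_nondeg (F := F) k hab
  have hfr : finrank F ((Fin k ⊕ Fin k) ⊕ Fin 2 → F) = 2 * (k + 1) := finrank_minus k
  obtain ⟨v₀, hv₀⟩ := Cfsg.Agent.Lib.Orth.Closure.exists_nonsingular (minusForm k F a b) hnd
  have hcc : c ^ 2 = l ^ 2 := by
    have h1 : minusForm k F a b (g (g v₀)) = l * (l * minusForm k F a b v₀) := by rw [hgQ, hgQ]
    rw [hg2, QuadraticMap.map_smul, smul_eq_mul] at h1
    have h3 : c * c * minusForm k F a b v₀ = l * l * minusForm k F a b v₀ := by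
      rw [h1, mul_assoc]
    have h4 := mul_right_cancel₀ hv₀ h3
    rw [pow_two, pow_two, h4]
  have hor : c = l ∨ c = -l := sq_eq_sq_iff_eq_or_eq_neg.1 hcc
  -- the rescaled map
  have hscale : ∀ d : F, d ≠ 0 → c = d * d → ∃ T₀ : ((Fin k ⊕ Fin k) ⊕ Fin 2 → F) ≃ₗ[F] ((Fin k ⊕ Fin k) ⊕ Fin 2 → F),
      (∀ x, T₀ x = d⁻¹ • g x) ∧ (∀ x, g x = d • T₀ x) ∧ (∀ x, T₀ (T₀ x) = x) ∧
      (∀ x, minusForm k F a b (T₀ x) = (d⁻¹ * d⁻¹ * l) * minusForm k F a b x) ∧
      LinearMap.det (g : ((Fin k ⊕ Fin k) ⊕ Fin 2 → F) →ₗ[F] ((Fin k ⊕ Fin k) ⊕ Fin 2 → F)) =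
        (d * d) ^ (k + 1) * LinearMap.det (T₀ : ((Fin k ⊕ Fin k) ⊕ Fin 2 → F) →ₗ[F] ((Fin k ⊕ Fin k) ⊕ Fin 2 → F)) := by
    intro d hd hcd
    refine ⟨g.trans (LinearEquiv.smulOfNeZero F _ d⁻¹ (inv_ne_zero hd)), ?_⟩
    set T₀ := g.trans (LinearEquiv.smulOfNeZero F _ d⁻¹ (inv_ne_zero hd)) with hT₀def
    have hT₀ : ∀ x, T₀ x = d⁻¹ • g x := fun x => rfl
    have hgT : ∀ x, g x = d • T₀ x := by
      intro x
      rw [hT₀, smul_smul, mul_inv_cancel₀ hd, one_smul]
    refine ⟨hT₀, hgT, ?_, ?_, ?_⟩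
    · intro x
      rw [hT₀, hT₀, map_smul, hg2, smul_smul, smul_smul, hcd]
      have : d⁻¹ * d⁻¹ * (d * d) = 1 := by field_simp
      rw [this, one_smul]
    · intro x
      rw [hT₀, QuadraticMap.map_smul, smul_eq_mul, hgQ]
      ring
    · have h1 : (g : ((Fin k ⊕ Fin k) ⊕ Fin 2 → F) →ₗ[F] ((Fin k ⊕ Fin k) ⊕ Fin 2 → F)) =
          d • (T₀ : ((Fin k ⊕ Fin k) ⊕ Fin 2 → F) →ₗ[F] ((Fin k ⊕ Fin k) ⊕ Fin 2 → F)) :=
        LinearMap.ext (fun x => hgT x)
      rw [h1, LinearMap.det_smul, hfr, pow_mul, pow_two]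
  rcases hor with hcl | hcl
  · by_cases hsq : IsSquare l
    · obtain ⟨d, hd⟩ := hsq
      have hd0 : d ≠ 0 := by
        rintro rfl
        exact hl (by simpa using hd)
      obtain ⟨T₀, hT₀, hgT, hinv, hQT, hdetT⟩ := hscale d hd0 (by rw [hcl, hd])
      have hiso : ∀ x, minusForm k F a b (T₀ x) = minusForm k F a b x := by
        intro x
        rw [hQT, hd]
        have : d⁻¹ * d⁻¹ * (d * d) = 1 := by field_simp
        rw [this, one_mul]
      have hdet1 : LinearMap.det (T₀ : ((Fin k ⊕ Fin k) ⊕ Fin 2 → F) →ₗ[F] ((Fin k ⊕ Fin k) ⊕ Fin 2 → F)) ≠ 1 := by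
        intro e
        apply hdet
        rw [hdetT, e, mul_one, hd]
      have hdetm := ClDet.det_of_invol h2 (T₀ : ((Fin k ⊕ Fin k) ⊕ Fin 2 → F) →ₗ[F] ((Fin k ⊕ Fin k) ⊕ Fin 2 → F)) hinv
      have hoddm : Odd (finrank F (Vm T₀)) := by
        by_contra hne
        rw [Nat.not_odd_iff_even] at hne
        apply hdet1
        rw [hdetm]
        exact hne.neg_one_pow
      have hsum : finrank F (Vp T₀) + finrank F (Vm T₀) = 2 * (k + 1) := by
        have := Submodule.finrank_add_eq_of_isCompl (ClDet.inv_compl h2 (T₀ : ((Fin k ⊕ Fin k) ⊕ Fin 2 → F) →ₗ[F] ((Fin k ⊕ Fin k) ⊕ Fin 2 → F)) hinv)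
        rw [hfr] at this
        exact this
      have hoddp : Odd (finrank F (Vp T₀)) := by
        obtain ⟨t, ht⟩ := hoddm
        exact ⟨k - t, by omega⟩
      refine Or.inl ⟨T₀, d, hd0, hgT, ?_, hdet1⟩
      exact
        { hQ := hnd
          h2 := h2
          iso := hiso
          inv := hinv
          odd₁ := hoddp
          odd₂ := hoddm
          big := by rw [card_minus' k]; omega }
    · have hg2' : ∀ x, g (g x) = l • x := by
        intro x
        rw [hg2, hcl]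
      have hdetg := ClDet.det_of_sq (g : ((Fin k ⊕ Fin k) ⊕ Fin 2 → F) →ₗ[F] ((Fin k ⊕ Fin k) ⊕ Fin 2 → F)) l hsq hg2' (k + 1) hfr
      have hodd : Odd (k + 1) := by
        by_contra hne
        rw [Nat.not_odd_iff_even] at hne
        apply hdet
        rw [hdetg, hne.neg_pow]
      refine Or.inr ?_
      exact
        { hQ := hnd
          h2 := h2
          hl := hsq
          hT2 := hg2'
          hQT := hgQ
          hcard := card_minus' k
          hodd := hodd
          hn5 := by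
            obtain ⟨t, ht⟩ := hodd
            omega }
  · exfalso
    by_cases hsq : IsSquare c
    · obtain ⟨d, hd⟩ := hsq
      have hd0 : d ≠ 0 := by
        rintro rfl
        exact hc (by simpa using hd)
      obtain ⟨T₀, hT₀, hgT, hinv, hQT, -⟩ := hscale d hd0 hd
      have hneg : ∀ x, minusForm k F a b (T₀ x) = - minusForm k F a b x := by
        intro x
        rw [hQT]
        have hl' : l = -(d * d) := by rw [← hd, hcl, neg_neg]
        rw [hl']
        have : d⁻¹ * d⁻¹ * -(d * d) = -1 := by field_simp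
        rw [this]
        ring
      have htwo : ∀ x, minusForm k F a b x = - minusForm k F a b x → minusForm k F a b x = 0 := by
        intro x hx
        have h3 : (2 : F) * minusForm k F a b x = 0 := by linear_combination hx
        exact (mul_eq_zero.1 h3).resolve_left h2
      have hTSp : ∀ x ∈ Vp T₀, minusForm k F a b x = 0 := by
        intro x hx
        apply htwo
        have := hneg x
        rwa [mem_Vp.1 hx] at this
      have hTSm : ∀ x ∈ Vm T₀, minusForm k F a b x = 0 := by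
        intro x hx
        apply htwo
        have := hneg x
        rwa [mem_Vm.1 hx, QuadraticMap.map_neg] at this
      have hsum : finrank F (Vp T₀) + finrank F (Vm T₀) = 2 * (k + 1) := by
        have := Submodule.finrank_add_eq_of_isCompl (ClDet.inv_compl h2 (T₀ : ((Fin k ⊕ Fin k) ⊕ Fin 2 → F) →ₗ[F] ((Fin k ⊕ Fin k) ⊕ Fin 2 → F)) hinv)
        rw [hfr] at this
        exact this
      by_cases hp : k + 1 ≤ finrank F (Vp T₀)
      · obtain ⟨U, hU, hUr⟩ := ClDet.exists_sub_finrank (Vp T₀) (k + 1) hp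
        exact no_half_minus hab U (fun x hx => hTSp x (hU hx)) (by rw [hfr, hUr])
      · obtain ⟨U, hU, hUr⟩ := ClDet.exists_sub_finrank (Vm T₀) (k + 1) (by omega)
        exact no_half_minus hab U (fun x hx => hTSm x (hU hx)) (by rw [hfr, hUr])
    · have hdetg := ClDet.det_of_sq (g : ((Fin k ⊕ Fin k) ⊕ Fin 2 → F) →ₗ[F] ((Fin k ⊕ Fin k) ⊕ Fin 2 → F)) c hsq hg2 (k + 1) hfr
      apply hdet
      rw [hdetg, hcl, neg_neg]

end Cfsg.Agent.Lib.LocalBalM.Cl
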